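import Groth.Agent.Comod.Image
import Groth.Agent.Comod.Image2
import Groth.Agent.Comod.UnipPts
import Groth.Agent.Comod.CST
import Groth.Agent.S7974
import Groth.Agent.S7981
import Groth.Agent.S7987
import Mathlib.GroupTheory.FiniteAbelian.Basic
import Mathlib.NumberTheory.LegendreSymbol.AddCharacter
import Mathlib.RingTheory.FiniteType

/-!
# A point which does not act unipotently gives a subgroup `μ_ℓ`
-/

set_option autoImplicit false

universe u v

open TensorProduct WithConv DirectSum

noncomputable section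

namespace Groth.Agent.LieUnip

open HopfRep Groth.Agent.Comod

variable {k : Type u} [Field k] {A : Type u} [CommRing A] [HopfAlgebra k A]

/-- precomposition of points with a bialgebra map, as a group homomorphism -/
def precomp {B : Type u} [CommRing B] [HopfAlgebra k B] (π : A →ₐc[k] B) :
    WithConv (B →ₐ[k] k) →* WithConv (A →ₐ[k] k) where
  toFun g := toConv (g.ofConv.comp (π : A →ₐ[k] B))
  map_one' := WithConv.ext (AlgHom.ext fun a => by
    simp [AlgHom.convOne_def])
  map_mul' g h := WithConv.ext (AlgHom.convMul_comp_bialgHom_distrib g h π)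

theorem toLinearMap_mul (g h : WithConv (A →ₐ[k] k)) :
    toConv ((g * h).ofConv.toLinearMap) = toConv g.ofConv.toLinearMap * toConv h.ofConv.toLinearMap :=
  rfl

theorem apply_groupLike (g h : WithConv (A →ₐ[k] k)) {x : A} (hx : IsGroupLikeElem k x) :
    (g * h).ofConv x = g.ofConv x * h.ofConv x := by
  rw [AlgHom.convMul_apply, hx.comul_eq_tmul_self]
  simp

theorem pow_apply_groupLike (g : WithConv (A →ₐ[k] k)) {x : A} (hx : IsGroupLikeElem k x) (n : ℕ) :
    (g ^ n).ofConv x = g.ofConv x ^ n := by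
  induction n with
  | zero => simp [AlgHom.convOne_def, hx.counit_eq_one]
  | succ n ih => rw [pow_succ, apply_groupLike _ _ hx, ih, pow_succ]

/-- a point of order `ℓ` (prime to the characteristic) gives a closed subgroup `μ_ℓ` -/
theorem exists_mu_of_order [IsAlgClosed k] (ℓ : ℕ) [Fact ℓ.Prime] (hℓ : (ℓ : k) ≠ 0)
    (g : WithConv (A →ₐ[k] k)) (hg : g ^ ℓ = 1) (hg1 : g ≠ 1) :
    ∃ f : A →ₐc[k] MonoidAlgebra k (Multiplicative (ZMod ℓ)), Function.Surjective f := by
  classical
  haveI : NeZero ℓ := ⟨(Fact.out : ℓ.Prime).ne_zero⟩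
  haveI : NeZero (ℓ : k) := ⟨hℓ⟩
  obtain ⟨ζ, hζ⟩ := HasEnoughRootsOfUnity.exists_primitiveRoot k ℓ
  let e : AddChar (ZMod ℓ) k := AddChar.zmodChar ℓ hζ.pow_eq_one
  have hprim : e.IsPrimitive := AddChar.zmodChar_primitive_of_primitive_root ℓ hζ
  let G : ZMod ℓ → WithConv (A →ₗ[k] k) := fun i => toConv (g ^ i.val).ofConv.toLinearMap
  have hGadd : ∀ i j, G i * G j = G (i + j) := fun i j => by
    show _ = toConv (g ^ (i + j).val).ofConv.toLinearMap
    rw [ZMod.val_add, ← pow_eq_pow_mod _ hg, pow_add, toLinearMap_mul]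
  have hGmul : ∀ i a b, (G i).ofConv (a * b) = (G i).ofConv a * (G i).ofConv b := fun i a b =>
    map_mul (g ^ i.val).ofConv a b
  have hGone : ∀ i, (G i).ofConv 1 = 1 := fun i => map_one (g ^ i.val).ofConv
  let c : ZMod ℓ → WithConv (A →ₗ[k] k) := fun j => (ℓ : k)⁻¹ • ∑ i, e (-(i * j)) • G i
  have hdelta : ∀ b : ZMod ℓ, (ℓ : k)⁻¹ * ∑ i, e (i * b) = if b = 0 then 1 else 0 := fun b => by
    rw [AddChar.sum_mulShift b hprim]
    split_ifs
    · rw [ZMod.card, inv_mul_cancel₀ hℓ]
    · simp
  have hinv : ∀ i, ∑ j, e (i * j) • c j = G i := by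
    intro i
    simp only [c, Finset.smul_sum, smul_smul]
    rw [Finset.sum_comm]
    simp only [← Finset.sum_smul]
    have : ∀ l, ∑ j, e (i * j) * ((ℓ : k)⁻¹ * e (-(l * j))) = if i - l = 0 then (1 : k) else 0 := fun l => by
      rw [← hdelta (i - l), Finset.mul_sum]
      refine Finset.sum_congr rfl fun j _ => ?_
      rw [mul_left_comm, ← AddChar.map_add_eq_mul]
      congr 2
      ring
    simp only [this, sub_eq_zero, ite_smul, one_smul, zero_smul, Finset.sum_ite_eq, Finset.mem_univ, if_true]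
  have hGc : ∀ i b, G i * c b = e (i * b) • c b := by
    intro i b
    simp only [c, mul_smul_comm, Finset.mul_sum, hGadd, Finset.smul_sum, smul_smul]
    refine Fintype.sum_equiv (Equiv.addLeft i) _ _ fun l => ?_
    rw [Equiv.coe_addLeft, mul_left_comm, ← AddChar.map_add_eq_mul]
    congr 3
    ring
  have hcc : ∀ a b, c a * c b = if a = b then c b else 0 := by
    intro a b
    conv_lhs => rw [show c a = (ℓ : k)⁻¹ • ∑ i, e (-(i * a)) • G i from rfl]
    simp only [smul_mul_assoc, Finset.sum_mul, hGc, smul_smul, ← Finset.sum_smul]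
    have : ∑ i, e (-(i * a)) * e (i * b) = ∑ i, e (i * (b - a)) := Finset.sum_congr rfl fun i _ => by
      rw [← AddChar.map_add_eq_mul]; congr 1; ring
    rw [this, hdelta]
    simp only [sub_eq_zero, @eq_comm _ b a, ite_smul, one_smul, zero_smul]
  let b : ZMod ℓ → MonoidAlgebra k (Multiplicative (ZMod ℓ)) := fun j =>
    MonoidAlgebra.single (Multiplicative.ofAdd j) 1
  have hb0 : b 0 = 1 := rfl
  have hbmul : ∀ i j, b i * b j = b (i + j) := fun i j => by
    simp [b, MonoidAlgebra.single_mul_single, ofAdd_add]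
  let F : A →ₗ[k] MonoidAlgebra k (Multiplicative (ZMod ℓ)) := ∑ j, (c j).ofConv.smulRight (b j)
  have hF : ∀ a, F a = ∑ j, (c j).ofConv a • b j := fun a => by simp [F, LinearMap.sum_apply]
  have hcapply : ∀ j a, (c j).ofConv a = (ℓ : k)⁻¹ * ∑ i, e (-(i * j)) * (G i).ofConv a := fun j a => by
    simp [c, WithConv.ofConv_sum, LinearMap.sum_apply]
  have hinvapply : ∀ i a, (G i).ofConv a = ∑ j, e (i * j) * (c j).ofConv a := fun i a => by
    rw [← hinv i]
    simp [WithConv.ofConv_sum, LinearMap.sum_apply]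
  have h1 : F 1 = 1 := by
    simp only [hF, hcapply, hGone, mul_one]
    have : ∀ j : ZMod ℓ, ∑ i, e (-(i * j)) = ∑ i, e (i * (-j)) := fun j =>
      Finset.sum_congr rfl fun i _ => by rw [mul_neg]
    simp only [this, hdelta, neg_eq_zero, ite_smul, one_smul, zero_smul, Finset.sum_ite_eq', Finset.mem_univ,
      if_true, hb0]
  have hcmul : ∀ j a a', (c j).ofConv (a * a') = ∑ l, (c l).ofConv a * (c (j - l)).ofConv a' := by
    intro j a a'
    have hG2 : ∀ i, (G i).ofConv a * (G i).ofConv a' =
        ∑ l, ∑ l', e (i * l) * (c l).ofConv a * (e (i * l') * (c l').ofConv a') := fun i => by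
      rw [hinvapply, hinvapply, Finset.sum_mul_sum]
    simp only [hcapply j, hGmul, hG2, Finset.mul_sum]
    rw [Finset.sum_comm]
    refine Finset.sum_congr rfl fun l _ => ?_
    rw [Finset.sum_comm, Finset.sum_eq_single (j - l)]
    · calc ∑ i, (ℓ : k)⁻¹ * (e (-(i * j)) * (e (i * l) * (c l).ofConv a * (e (i * (j - l)) * (c (j - l)).ofConv a')))
          = ((ℓ : k)⁻¹ * ∑ i, e (i * 0)) * ((c l).ofConv a * (c (j - l)).ofConv a') := by
            rw [Finset.mul_sum, Finset.sum_mul]
            refine Finset.sum_congr rfl fun i _ => ?_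
            rw [show e (i * 0) = e (-(i * j)) * e (i * l) * e (i * (j - l)) by
              rw [← AddChar.map_add_eq_mul, ← AddChar.map_add_eq_mul]; congr 1; ring]
            ring
        _ = _ := by rw [hdelta, if_pos rfl, one_mul]
    · intro l' _ hl'
      calc ∑ i, (ℓ : k)⁻¹ * (e (-(i * j)) * (e (i * l) * (c l).ofConv a * (e (i * l') * (c l').ofConv a')))
          = ((ℓ : k)⁻¹ * ∑ i, e (i * (l + l' - j))) * ((c l).ofConv a * (c l').ofConv a') := by
            rw [Finset.mul_sum, Finset.sum_mul]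
            refine Finset.sum_congr rfl fun i _ => ?_
            rw [show e (i * (l + l' - j)) = e (-(i * j)) * e (i * l) * e (i * l') by
              rw [← AddChar.map_add_eq_mul, ← AddChar.map_add_eq_mul]; congr 1; ring]
            ring
        _ = 0 := by
            rw [hdelta, if_neg fun h => hl' ?_, zero_mul]
            linear_combination h
    · simp
  have hmul : ∀ a a', F (a * a') = F a * F a' := by
    intro a a'
    simp only [hF, hcmul, Finset.sum_smul, Finset.sum_mul_sum]
    rw [Finset.sum_comm]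
    refine Finset.sum_congr rfl fun i _ => ?_
    refine Fintype.sum_equiv (Equiv.subRight i) _ _ fun j => ?_
    rw [Equiv.subRight_apply, smul_mul_smul_comm, hbmul, add_sub_cancel]
  let f₀ : A →ₐ[k] MonoidAlgebra k (Multiplicative (ZMod ℓ)) := AlgHom.ofLinearMap F h1 hmul
  have hf₀ : ∀ a, f₀ a = F a := fun a => rfl
  have hmap : ∀ z : A ⊗[k] A, TensorProduct.map F F z =
      ∑ i, ∑ j, LinearMap.mul' k k (TensorProduct.map (c i).ofConv (c j).ofConv z) • (b i ⊗ₜ[k] b j) := by
    intro z
    induction z using TensorProduct.induction_on with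
    | zero => simp
    | tmul x y =>
      rw [TensorProduct.map_tmul, hF, hF, TensorProduct.sum_tmul]
      refine Finset.sum_congr rfl fun i _ => ?_
      rw [TensorProduct.tmul_sum]
      refine Finset.sum_congr rfl fun j _ => ?_
      rw [TensorProduct.smul_tmul_smul, TensorProduct.map_tmul, LinearMap.mul'_apply]
    | add x y hx hy => simp only [map_add, hx, hy, add_smul, Finset.sum_add_distrib]
  refine ⟨BialgHom.ofAlgHom f₀ ?_ ?_, ?_⟩
  · ext a
    rw [AlgHom.comp_apply, hf₀, hF, map_sum]
    have : ∀ j, Bialgebra.counitAlgHom k (MonoidAlgebra k (Multiplicative (ZMod ℓ))) (b j) = 1 := fun j => by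
      simp [b]
    simp only [map_smul, this, smul_eq_mul, mul_one]
    have h0 := hinvapply 0 a
    simp only [zero_mul, AddChar.map_zero_eq_one, one_mul] at h0
    rw [← h0]
    show (g ^ (0 : ZMod ℓ).val).ofConv a = _
    rw [ZMod.val_zero, pow_zero]
    simp [AlgHom.convOne_def]
  · ext a
    show TensorProduct.map F F (Coalgebra.comul (R := k) a) = Coalgebra.comul (R := k) (F a)
    rw [hmap, hF, map_sum]
    refine Finset.sum_congr rfl fun i _ => ?_
    rw [Finset.sum_eq_single i]
    · rw [← LinearMap.convMul_apply, hcc, if_pos rfl, map_smul]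
      congr 1
      simp [b]
    · intro j _ hj
      rw [← LinearMap.convMul_apply, hcc, if_neg (Ne.symm hj)]
      simp
    · simp
  · show Function.Surjective f₀
    obtain ⟨i, hi0, a, ha⟩ : ∃ i : ZMod ℓ, i ≠ 0 ∧ ∃ a, (c i).ofConv a ≠ 0 := by
      by_contra h
      push Not at h
      refine hg1 (WithConv.ext (AlgHom.ext fun a => ?_))
      have hsum : ∀ i : ZMod ℓ, (G i).ofConv a = (c 0).ofConv a := fun i => by
        rw [hinvapply, Finset.sum_eq_single (0 : ZMod ℓ)]
        · simp
        · intro j _ hj; rw [h j hj, mul_zero]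
        · simp
      haveI : Fact (1 < ℓ) := ⟨(Fact.out : ℓ.Prime).one_lt⟩
      have h01 : (g ^ (1 : ZMod ℓ).val).ofConv a = (g ^ (0 : ZMod ℓ).val).ofConv a :=
        (hsum 1).trans (hsum 0).symm
      rwa [ZMod.val_one, ZMod.val_zero, pow_one, pow_zero] at h01
    have hone : ∃ z, f₀ z = b i := by
      refine ⟨((c i).ofConv a)⁻¹ • contract (c i).ofConv a, ?_⟩
      have h2 : ∀ j, (c j).ofConv (contract (c i).ofConv a) = (c j * c i).ofConv a := fun j => by
        rw [contract_apply, LinearMap.convMul_apply]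
        change (c j).ofConv (slice (c i).ofConv (Coalgebra.comul (R := k) a)) = _
        induction Coalgebra.comul (R := k) a using TensorProduct.induction_on with
        | zero => simp
        | tmul x y => simp [mul_comm]
        | add x y hx hy => simp only [map_add, hx, hy]
      rw [map_smul, hf₀, hF, Finset.sum_eq_single i]
      · rw [h2, hcc, if_pos rfl, inv_smul_smul₀ ha]
      · intro j _ hj
        rw [h2, hcc, if_neg hj]
        simp
      · simp
    obtain ⟨z, hz⟩ := hone
    have hall : ∀ l, ∃ z, f₀ z = b l := by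
      intro l
      refine ⟨z ^ (l / i).val, ?_⟩
      rw [map_pow, hz]
      simp only [b, MonoidAlgebra.single_pow, one_pow, ← ofAdd_nsmul]
      rw [nsmul_eq_mul, ZMod.natCast_val, ZMod.cast_id', id_eq, div_mul_cancel₀ l hi0]
    have hr : f₀.range = ⊤ := by
      refine top_le_iff.mp fun v _ => ?_
      induction v using MonoidAlgebra.induction_linear with
      | zero => exact zero_mem _
      | add v w hv hw => exact add_mem (hv trivial) (hw trivial)
      | single x r =>
        obtain ⟨z, hz⟩ := hall (Multiplicative.toAdd x)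
        exact ⟨r • z, by simp [hz, b, MonoidAlgebra.smul_single]⟩
    exact AlgHom.range_eq_top _ |>.mp hr

/-- a nontrivial finitely generated abelian group without `p`-torsion has a nonzero map to some `ℤ/ℓ`, `ℓ ≠ p` -/
theorem exists_hom_zmod (p : ℕ) (M : Type u) [AddCommGroup M] [AddGroup.FG M] [Nontrivial M]
    (htor : p.Prime → ∀ x : M, p • x = 0 → x = 0) :
    ∃ ℓ : ℕ, ℓ.Prime ∧ ℓ ≠ p ∧ ∃ φ : M →+ ZMod ℓ, φ ≠ 0 := by
  classical
  obtain ⟨n, ι, _, q, hq, e, ⟨E⟩⟩ := AddCommGroup.equiv_free_prod_directSum_zmod M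
  rcases Nat.eq_zero_or_pos n with rfl | hn
  · obtain ⟨i, hi⟩ : ∃ i, 0 < e i := by
      by_contra h
      push Not at h
      haveI : ∀ i, Subsingleton (ZMod (q i ^ e i)) := fun i => by
        rw [Nat.le_zero.1 (h i), pow_zero]
        exact inferInstanceAs (Subsingleton (Fin 1))
      haveI : Subsingleton M := E.toEquiv.injective.subsingleton
      exact false_of_nontrivial_of_subsingleton M
    have hdvd : q i ∣ q i ^ e i := dvd_pow_self _ hi.ne'
    refine ⟨q i, hq i, fun hqp => ?_, ((ZMod.castHom hdvd (ZMod (q i))).toAddMonoidHom.comp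
      ((DFinsupp.evalAddMonoidHom i).comp ((AddMonoidHom.snd _ _).comp E.toAddMonoidHom))), fun h0 => ?_⟩
    · let y : DirectSum ι (fun j => ZMod (q j ^ e j)) := DirectSum.of _ i ((q i ^ (e i - 1) : ℕ) : ZMod (q i ^ e i))
      have hy : p • y = 0 := by
        rw [← hqp, ← map_nsmul, nsmul_eq_mul, ← Nat.cast_mul, ← pow_succ', Nat.sub_add_cancel hi,
          ZMod.natCast_self, map_zero]
      have h2 := htor (hqp ▸ hq i) (E.symm (0, y)) (by rw [← map_nsmul, Prod.smul_mk, hy, smul_zero]; exact map_zero _)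
      have h3 : y = 0 := congrArg Prod.snd (E.symm.injective (h2.trans (map_zero E.symm).symm))
      have h4 : ((q i ^ (e i - 1) : ℕ) : ZMod (q i ^ e i)) = 0 :=
        DirectSum.of_injective i (h3.trans (map_zero _).symm)
      rw [ZMod.natCast_eq_zero_iff] at h4
      have := (Nat.pow_dvd_pow_iff_le_right (hq i).one_lt).1 h4
      omega
    · have h1 := DFunLike.congr_fun h0 (E.symm (0, DirectSum.of _ i 1))
      simp only [AddMonoidHom.coe_comp, Function.comp_apply, AddEquiv.coe_toAddMonoidHom, AddEquiv.apply_symm_apply,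
        AddMonoidHom.coe_snd, AddMonoidHom.zero_apply] at h1
      haveI := Fact.mk (hq i)
      change (ZMod.castHom hdvd (ZMod (q i))) ((DirectSum.of (fun j => ZMod (q j ^ e j)) i 1) i) = 0 at h1
      rw [DirectSum.of_eq_same, map_one] at h1
      exact one_ne_zero h1
  · obtain ⟨ℓ, hle, hℓ⟩ := Nat.exists_infinite_primes (p + 1)
    refine ⟨ℓ, hℓ, by omega, ((Int.castAddHom (ZMod ℓ)).comp ((Finsupp.applyAddHom (⟨0, hn⟩ : Fin n)).comp
      ((AddMonoidHom.fst _ _).comp E.toAddMonoidHom))), fun h0 => ?_⟩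
    have h1 := DFunLike.congr_fun h0 (E.symm (Finsupp.single ⟨0, hn⟩ 1, 0))
    haveI := Fact.mk hℓ
    simp at h1

/-- a reduced commutative non-unipotent group has a point of prime order prime to the characteristic -/
theorem exists_point_of_cocomm [IsAlgClosed k] {H : Type u} [CommRing H] [HopfAlgebra k H] [Algebra.FiniteType k H]
    [IsReduced H] [Coalgebra.IsCocomm k H] (hnU : ¬ HopfRep.IsUnipotent k H) :
    ∃ ℓ : ℕ, ℓ.Prime ∧ (ℓ : k) ≠ 0 ∧ ∃ h : WithConv (H →ₐ[k] k), h ^ ℓ = 1 ∧ h ≠ 1 := by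
  classical
  have hT : IsTrigonalizable k H := isTrigonalizable_of_cocomm
  obtain ⟨a₁, ha₁, ha₁1⟩ : ∃ x : H, IsGroupLikeElem k x ∧ x ≠ 1 := by
    by_contra hall
    push Not at hall
    have hU : HopfRep.IsUnipotent k (H) := by
      intro W _ _ _ hfin hnt
      obtain ⟨v, hv, -, a, ha, hav⟩ := TrigUnip.exists_eigen_mod hT (⊥ : Submodule k W) bot_ne_top
        (isSubcomod_bot (k := k) (A := H))
      refine (Submodule.ne_bot_iff _).2 ⟨v, (eq_tmul_iff_contract (k := k) (A := H) v 1).2 fun φ => ?_,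
        fun h => hv (Submodule.mem_bot k |>.2 h)⟩
      have := (Submodule.mem_bot k).1 (hav φ)
      rwa [hall a ha, sub_eq_zero] at this
    exact hnU hU
  let ψ : MonoidAlgebra k (GroupLike k H) →ₐc[k] H := MonoidAlgebra.liftGroupLikeBialgHom
  have hψ1 : ∀ m : GroupLike k H, ψ (MonoidAlgebra.single m 1) = GroupLike.val m := fun m => by
    simp [ψ, MonoidAlgebra.liftGroupLikeBialgHom]
  have hψ : Function.Injective ψ := by
    intro x y hxy
    have hlin : ∀ x : MonoidAlgebra k (GroupLike k H), ψ x =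
        Finsupp.linearCombination k (GroupLike.val (R := k) (A := H)) x.coeff := by
      intro x
      induction x using MonoidAlgebra.induction_linear with
      | zero => simp
      | add x y hx hy => rw [map_add, MonoidAlgebra.coeff_add, map_add, hx, hy]
      | single g r => simp [ψ, MonoidAlgebra.liftGroupLikeBialgHom]
    rw [hlin, hlin] at hxy
    exact MonoidAlgebra.coeff_injective (linearIndep_groupLikeVal hxy)
  haveI : Algebra.FiniteType k (MonoidAlgebra k (GroupLike k H)) := by
    have h := @Image2.finiteType_of_injective k _ H _ _ _ (MonoidAlgebra k (GroupLike k H)) _ _ ψ hψ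
    exact h
  haveI : Group.FG (GroupLike k H) := MonoidAlgebra.finiteType_iff_group_fg.1 ‹_›
  haveI : AddGroup.FG (Additive (GroupLike k H)) := GroupFG.iff_add_fg.1 ‹_›
  haveI : Nontrivial (Additive (GroupLike k H)) := ⟨⟨Additive.ofMul ⟨a₁, ha₁⟩, 0, fun h =>
    ha₁1 (congrArg GroupLike.val (congrArg Additive.toMul h))⟩⟩
  obtain ⟨ℓ, hℓp, hℓne, φ₀, hφ₀⟩ := exists_hom_zmod (ringChar k) (Additive (GroupLike k H)) fun hp x hx => by
    haveI := Fact.mk hp
    haveI : Nontrivial H := (Bialgebra.counitAlgHom k H).toRingHom.domain_nontrivial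
    haveI : CharP H (ringChar k) := charP_of_injective_algebraMap (algebraMap k H).injective _
    have h1 : GroupLike.val (Additive.toMul x) ^ ringChar k = 1 := by
      have := congrArg (fun y => GroupLike.val (Additive.toMul y)) hx
      simpa using this
    have h2 : (GroupLike.val (Additive.toMul x) - 1) ^ ringChar k = 0 := by
      rw [sub_pow_char, h1, one_pow, sub_self]
    exact congrArg Additive.ofMul (GroupLike.ext (R := k)
      ((sub_eq_zero.1 (IsNilpotent.eq_zero ⟨_, h2⟩)).trans GroupLike.val_one.symm))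
  haveI := Fact.mk hℓp
  have hℓk : (ℓ : k) ≠ 0 := by
    rw [Ne, ringChar.spec]
    intro hdvd
    rcases CharP.char_is_prime_or_zero k (ringChar k) with hp | h0
    · exact hℓne ((Nat.prime_dvd_prime_iff_eq hp hℓp).1 hdvd).symm
    · exact hℓp.ne_zero (Nat.eq_zero_of_zero_dvd (h0 ▸ hdvd))
  haveI : NeZero (ℓ : k) := ⟨hℓk⟩
  haveI : NeZero ℓ := ⟨hℓp.ne_zero⟩
  obtain ⟨ζ, hζ⟩ := HasEnoughRootsOfUnity.exists_primitiveRoot k ℓ
  let e : AddChar (ZMod ℓ) k := AddChar.zmodChar ℓ hζ.pow_eq_one
  let χ : GroupLike k H →* k :=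
    { toFun := fun m => e (φ₀ (Additive.ofMul m))
      map_one' := by simp
      map_mul' := fun m m' => by simp [AddChar.map_add_eq_mul] }
  let q : WithConv (MonoidAlgebra k (GroupLike k H) →ₐ[k] k) := toConv (MonoidAlgebra.lift k k _ χ)
  have hq1 : ∀ m, q.ofConv (MonoidAlgebra.single m 1) = χ m := fun m => by simp [q]
  obtain ⟨h₀, hh₀⟩ := S7981.result k H (MonoidAlgebra k (GroupLike k H)) ψ hψ k q.ofConv
  have hh₀' : precomp ψ (toConv h₀) = q := WithConv.ext hh₀
  have hqℓ : q ^ ℓ = 1 := by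
    refine WithConv.ext (MonoidAlgebra.algHom_ext (fun m => ?_) (Algebra.ext_id _ _ _))
    rw [pow_apply_groupLike q (MonoidAlgebra.isGroupLikeElem_single_one m), hq1]
    show e (φ₀ (Additive.ofMul m)) ^ ℓ = _
    rw [← AddChar.map_nsmul_eq_pow, nsmul_eq_mul, ZMod.natCast_self, zero_mul, AddChar.map_zero_eq_one]
    simp [AlgHom.convOne_def]
  haveI : (KerHopf.kerIdeal ψ).IsHopfIdeal k := KerHopf.isHopfIdeal ψ
  have hUq : HopfRep.IsUnipotent k (H ⧸ KerHopf.kerIdeal ψ) := TrigUnip.isUnipotent_quot hT _ fun a ha => by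
    rw [show a = GroupLike.val (⟨a, ha⟩ : GroupLike k H) from rfl, ← hψ1, KerHopf.mk_comp, (MonoidAlgebra.isGroupLikeElem_single_one _).counit_eq_one, map_one]
  let ρ : H →ₐc[k] H ⧸ KerHopf.kerIdeal ψ := Bialgebra.Quotient.mkBialgHom _
  haveI : Algebra.FiniteType k (H ⧸ KerHopf.kerIdeal ψ) :=
    Algebra.FiniteType.of_surjective (ρ : H →ₐ[k] _) Ideal.Quotient.mk_surjective
  have hJ : KerHopf.kerIdeal ψ ≤ RingHom.ker ((toConv h₀ ^ ℓ).ofConv : H →ₐ[k] k) := by
    refine Ideal.map_le_iff_le_comap.2 fun y hy => ?_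
    rw [Ideal.mem_comap, RingHom.mem_ker]
    change (precomp ψ (toConv h₀ ^ ℓ)).ofConv y = 0
    rw [map_pow, hh₀', hqℓ]
    simpa [AlgHom.convOne_def, RingHom.mem_ker] using hy
  let u : WithConv (H ⧸ KerHopf.kerIdeal ψ →ₐ[k] k) :=
    toConv (Ideal.Quotient.liftₐ _ (toConv h₀ ^ ℓ).ofConv fun a ha => hJ ha)
  have hu : precomp ρ u = toConv h₀ ^ ℓ := WithConv.ext (AlgHom.ext fun a => rfl)
  obtain ⟨w, hw⟩ := (UnipPts.bijective_pow hUq ℓ (fun h => hℓk ((ringChar.spec k ℓ).2 h))).2 u
  have hw' : w ^ ℓ = u := hw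
  let h : WithConv (H →ₐ[k] k) := toConv h₀ * (precomp ρ w)⁻¹
  have hcomm : ∀ x y : WithConv (H →ₐ[k] k), Commute x y := fun x y => mul_comm x y
  have hord : h ^ ℓ = 1 := by
    rw [(hcomm _ _).mul_pow, inv_pow, ← map_pow, hw', hu, mul_inv_cancel]
  have hψw : precomp ψ (precomp ρ w) = 1 := by
    refine WithConv.ext (MonoidAlgebra.algHom_ext (fun m => ?_) (Algebra.ext_id _ _ _))
    show w.ofConv (Ideal.Quotient.mk (KerHopf.kerIdeal ψ) (ψ (MonoidAlgebra.single m 1))) = _
    rw [KerHopf.mk_comp, AlgHom.commutes]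
    simp [AlgHom.convOne_def]
  have hne : h ≠ 1 := by
    intro h1
    have h2 : q = 1 := by
      have := congrArg (precomp ψ) h1
      rwa [map_mul, map_inv, hψw, inv_one, mul_one, map_one, hh₀'] at this
    apply hφ₀
    refine AddMonoidHom.ext fun x => ?_
    by_contra hx
    have h3 : χ (Additive.toMul x) = 1 := by
      rw [← hq1, h2]
      simp [AlgHom.convOne_def]
    have h4 : ζ ^ (φ₀ x).val = 1 := h3
    exact hζ.pow_ne_one_of_pos_of_lt (fun h5 => hx ((ZMod.val_eq_zero _).1 h5)) (ZMod.val_lt _) h4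
  exact ⟨ℓ, hℓp, hℓk, h, hord, hne⟩

/-- If some point does not act unipotently, then there is a point of prime order prime to the
characteristic, hence a subgroup `μ_ℓ`. -/
theorem exists_mu_of_not_nilpotent [IsAlgClosed k] [Algebra.FiniteType k A] (g : A →ₐ[k] k)
    (V : Type u) [AddCommGroup V] [Module k V] [HopfRep.Comod k A V] [Module.Finite k V]
    (hg : ¬ IsNilpotent (HopfRep.Comod.act k A V g - 1)) :
    ∃ ℓ : ℕ, ℓ.Prime ∧ (ℓ : k) ≠ 0 ∧
      ∃ f : A →ₐc[k] MonoidAlgebra k (Multiplicative (ZMod ℓ)), Function.Surjective f := by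
  classical
  let S : Subgroup (WithConv (A →ₐ[k] k)) := Subgroup.zpowers (toConv g)
  let I : Ideal A := ⨅ x ∈ S, RingHom.ker (x.ofConv : A →ₐ[k] k)
  haveI : I.IsHopfIdeal k := S7974.result k A S
  have hI : ∀ x, x ∈ I ↔ ∀ s ∈ S, s.ofConv x = 0 := fun x => by simp [I]
  let π : A →ₐc[k] A ⧸ I := Bialgebra.Quotient.mkBialgHom I
  have hπ : Function.Surjective π := Ideal.Quotient.mk_surjective
  haveI : IsReduced (A ⧸ I) := (Ideal.isRadical_iff_quotient_reduced I).1 fun x ⟨n, hx⟩ =>
    (hI x).2 fun s hs => eq_zero_of_pow_eq_zero (n := n) (by rw [← map_pow]; exact (hI _).1 hx s hs)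
  haveI : Algebra.FiniteType k (A ⧸ I) := Algebra.FiniteType.of_surjective (π : A →ₐ[k] A ⧸ I) hπ
  let bar : ∀ s, s ∈ S → (A ⧸ I →ₐ[k] k) := fun s hs => Ideal.Quotient.liftₐ I s.ofConv fun a ha => (hI a).1 ha s hs
  have hbar : ∀ s hs, precomp π (toConv (bar s hs)) = s := fun s hs => WithConv.ext (AlgHom.ext fun a => rfl)
  have hsep : ∀ y : A ⧸ I, (∀ s hs, bar s hs y = 0) → y = 0 := by
    intro y hy
    obtain ⟨x, rfl⟩ := hπ y
    exact Ideal.Quotient.eq_zero_iff_mem.2 ((hI x).2 fun s hs => hy s hs)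
  have hpre : Function.Injective (precomp π) := fun x y h => WithConv.ext (AlgHom.ext fun a => by
    obtain ⟨a, rfl⟩ := hπ a
    exact DFunLike.congr_fun (congrArg WithConv.ofConv h) a)
  haveI : Coalgebra.IsCocomm k (A ⧸ I) := by
    refine ⟨LinearMap.ext fun y => sub_eq_zero.1 ?_⟩
    set z := (TensorProduct.comm k (A ⧸ I) (A ⧸ I)).toLinearMap (Coalgebra.comul (R := k) y) -
      Coalgebra.comul (R := k) y with hz
    change z = 0
    have h2 : ∀ s hs t ht, bar s hs (slice (bar t ht).toLinearMap z) = 0 := by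
      intro s hs t ht
      have e : ∀ w : (A ⧸ I) ⊗[k] (A ⧸ I), bar s hs (slice (bar t ht).toLinearMap w) =
          Algebra.TensorProduct.lift (bar s hs) (bar t ht) (fun _ _ => Commute.all _ _) w := by
        intro w
        induction w using TensorProduct.induction_on with
        | zero => simp
        | tmul x x' => simp [mul_comm]
        | add x x' hx hx' => simp only [map_add, hx, hx']
      have hm : ∀ u (hu : u ∈ S) v (hv : v ∈ S), Algebra.TensorProduct.lift (bar u hu) (bar v hv)
          (fun _ _ => Commute.all _ _) (Coalgebra.comul (R := k) y) = (toConv (bar u hu) * toConv (bar v hv)).ofConv y := by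
        intro u hu v hv
        rw [AlgHom.convMul_apply]
      have hcomm : ∀ w : (A ⧸ I) ⊗[k] (A ⧸ I), Algebra.TensorProduct.lift (bar s hs) (bar t ht)
          (fun _ _ => Commute.all _ _) ((TensorProduct.comm k (A ⧸ I) (A ⧸ I)).toLinearMap w) =
          Algebra.TensorProduct.lift (bar t ht) (bar s hs) (fun _ _ => Commute.all _ _) w := by
        intro w
        induction w using TensorProduct.induction_on with
        | zero => simp
        | tmul x x' => simp [mul_comm]
        | add x x' hx hx' => simp only [map_add, hx, hx']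
      have hst : toConv (bar t ht) * toConv (bar s hs) = toConv (bar s hs) * toConv (bar t ht) := hpre (by
        rw [map_mul, map_mul, hbar t ht, hbar s hs]
        exact congrArg Subtype.val (mul_comm' (⟨t, ht⟩ : S) ⟨s, hs⟩))
      rw [e, hz, map_sub, hcomm, hm t ht s hs, hm s hs t ht, hst, sub_self]
    have h3 : ∀ t ht, slice (bar t ht).toLinearMap z = 0 := fun t ht => hsep _ fun s hs => h2 s hs t ht
    refine (LinearEquiv.map_eq_zero_iff (TensorProduct.comm k (A ⧸ I) (A ⧸ I))).1 (eq_zero_of_slice _ fun ψ => ?_)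
    refine hsep _ fun t ht => ?_
    have e : ∀ w : (A ⧸ I) ⊗[k] (A ⧸ I), bar t ht (slice ψ (TensorProduct.comm k _ _ w)) =
        ψ (slice (bar t ht).toLinearMap w) := by
      intro w
      induction w using TensorProduct.induction_on with
      | zero => simp
      | tmul x x' => simp [mul_comm]
      | add x x' hx hx' => simp only [map_add, hx, hx']
    rw [e, h3 t ht, map_zero]
  obtain ⟨ℓ, hℓp, hℓk, h, hord, hne⟩ := exists_point_of_cocomm (k := k) (H := A ⧸ I) fun hU => by
    let gb : A ⧸ I →ₐ[k] k := bar (toConv g) (Subgroup.mem_zpowers _)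
    have hgb : ∀ x, gb (π x) = g x := fun x => rfl
    letI cH : HopfRep.Comod k (A ⧸ I) V := CST.push π.toCoalgHom inferInstance
    have hn := S7987.result k (A ⧸ I) hU gb V
    have he : HopfRep.Comod.act k (A ⧸ I) V gb = HopfRep.Comod.act k A V g := LinearMap.ext fun x => by
      change slice gb.toLinearMap (π.toCoalgHom.toLinearMap.lTensor V
          (HopfRep.Comod.coact (k := k) (A := A) x)) = slice g.toLinearMap (HopfRep.Comod.coact (k := k) (A := A) x)
      generalize HopfRep.Comod.coact (k := k) (A := A) x = z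
      induction z using TensorProduct.induction_on with
      | zero => simp
      | tmul y a => simp [← hgb]; rfl
      | add y y' hy hy' => simp only [map_add, hy, hy']
    exact hg (he ▸ hn)
  haveI := Fact.mk hℓp
  refine ⟨ℓ, hℓp, hℓk, exists_mu_of_order ℓ hℓk (precomp π h) (by rw [← map_pow, hord, map_one]) fun h1 => ?_⟩
  exact hne (hpre (h1.trans (map_one _).symm))

end Groth.Agent.LieUnip
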