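import Groth.Agent.LieUnip.HeightOne
import Groth.Agent.Comod.Image

/-!
# Nilpotency of the `p`-Lie algebra is stable under extension of the ground field
-/

universe u

open TensorProduct WithConv

noncomputable section

namespace Groth.Agent.LieUnip

open HopfRep Groth.Agent.Comod

attribute [local instance 100] LieRing.ofAssociativeRing

variable {k : Type u} [Field k] {A : Type u} [CommRing A] [HopfAlgebra k A]
variable {V : Type u} [AddCommGroup V] [Module k V] [HopfRep.Comod k A V]

/-- a filtration lowered by the Lie algebra -/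
theorem exists_lie_flag (p : ℕ) (hP : PNil p k A) [FiniteDimensional k V] :
    ∃ (N : ℕ) (F : ℕ → Submodule k V), F 0 = ⊤ ∧ F N = ⊥ ∧
      ∀ (i : ℕ) (D : LieHopf.Lie k A) (v : V), v ∈ F i → contract (dconv D).ofConv v ∈ F (i + 1) := by
  let L : LieSubalgebra k (Module.End k V) :=
    { LinearMap.range (opMap A V) with
      lie_mem' := by
        rintro _ _ ⟨D, rfl⟩ ⟨E, rfl⟩
        obtain ⟨F, hF⟩ := exists_lie _ (isPt_bracket D E)
        refine ⟨F, LinearMap.ext fun v => ?_⟩
        change contract (dconv F).ofConv v =
          contract (dconv D).ofConv (contract (dconv E).ofConv v) -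
            contract (dconv E).ofConv (contract (dconv D).ofConv v)
        rw [contract_contract, contract_contract, hF]
        simp only [contract_apply]
        generalize HopfRep.Comod.coact (k := k) (A := A) v = z
        induction z using TensorProduct.induction_on with
        | zero => simp
        | tmul x a =>
          rw [slice_tmul, slice_tmul, slice_tmul, ← sub_smul]
          rfl
        | add x y hx hy => simp only [map_add, hx, hy]; abel }
  haveI : LieModule.IsNilpotent L V := by
    rw [LieModule.isNilpotent_iff_forall (R := k)]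
    rintro ⟨_, D, rfl⟩
    obtain ⟨n, -, hn⟩ := hP D
    refine ⟨p ^ n, LinearMap.ext fun v => ?_⟩
    have h1 := contract_pow (V := V) (dconv D) (p ^ n) v
    rw [hn] at h1
    refine Eq.trans h1.symm ?_
    rw [contract_apply, WithConv.ofConv_zero]
    generalize HopfRep.Comod.coact (k := k) (A := A) v = z
    induction z using TensorProduct.induction_on with
    | zero => simp
    | tmul x a => simp
    | add x y hx hy => simp [map_add, hx, hy]
  obtain ⟨N, hN⟩ := (LieModule.isNilpotent_iff k L V).1 inferInstance
  refine ⟨N, fun i => (LieModule.lowerCentralSeries k L V i).toSubmodule, ?_, ?_, fun i D v hv => ?_⟩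
  · simp
  · simp [hN]
  · change contract (dconv D).ofConv v ∈ LieModule.lowerCentralSeries k L V (i + 1)
    rw [LieModule.lowerCentralSeries_succ]
    exact LieSubmodule.lie_mem_lie (LieSubmodule.mem_top (⟨opMap A V D, D, rfl⟩ : L)) hv

variable (K : Type u) [Field K] [Algebra k K]

/-- an invariant derivation of `K ⊗ A` is a combination of invariant derivations of `A` -/
theorem contract_inc_mem (D : LieHopf.Lie K (K ⊗[k] A)) (G : Submodule k A) (a : A)
    (hG : ∀ E : LieHopf.Lie k A, contract (dconv E).ofConv a ∈ G) :
    contract (dconv D).ofConv (Image.inc (k := k) K a) ∈ Image.ext' K (Image.inc (k := k) (A := A) K) G := by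
  classical
  let ξ : A →ₗ[k] K := ((dconv D).ofConv.restrictScalars k) ∘ₗ Image.inc (k := k) K
  let b := Module.Free.chooseBasis k K
  let E := TensorProduct.equivFinsuppOfBasisLeft (N := A) b
  have hpt : ∀ j, FiniteGrp.Deriv.IsPt (b.coord j ∘ₗ ξ) := by
    intro j x y
    have h : ξ (x * y) = Bialgebra.counitAlgHom k A x • ξ y + Bialgebra.counitAlgHom k A y • ξ x := by
      change (dconv D).ofConv ((1 : K) ⊗ₜ[k] (x * y)) = _
      rw [show (1 : K) ⊗ₜ[k] (x * y) = ((1 : K) ⊗ₜ[k] x) * ((1 : K) ⊗ₜ[k] y) by simp,
        isPt_dconv D]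
      simp [ξ, Image.inc, Algebra.smul_def, mul_comm]
    simp only [LinearMap.comp_apply, h, map_add, map_smul, smul_eq_mul]
  choose Dj hDj using fun j => exists_lie _ (hpt j)
  have hz : ∀ z : A ⊗[k] A, ∀ j, E (Image.lam (Image.inc (k := k) K) (dconv D).ofConv z) j =
      slice (b.coord j ∘ₗ ξ) z := by
    intro z j
    induction z using TensorProduct.induction_on with
    | zero => simp
    | add x y hx hy => simp only [map_add, Finsupp.add_apply, hx, hy]
    | tmul x y =>
      rw [Image.lam_tmul, slice_tmul]
      change E ((dconv D).ofConv (Image.inc (k := k) K y) • ((1 : K) ⊗ₜ[k] x)) j = _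
      rw [TensorProduct.smul_tmul', smul_eq_mul, mul_one, TensorProduct.equivFinsuppOfBasisLeft_apply_tmul_apply]
      rfl
  rw [Image.inc_comul, ← E.symm_apply_apply (Image.lam (Image.inc (k := k) K) (dconv D).ofConv
    (Coalgebra.comul (R := k) a)), TensorProduct.equivFinsuppOfBasisLeft_symm_apply]
  refine Submodule.sum_mem _ fun j _ => ?_
  dsimp only
  rw [show b j ⊗ₜ[k] (E (Image.lam (Image.inc (k := k) K) (dconv D).ofConv (Coalgebra.comul (R := k) a)) j) =
    b j • Image.inc (k := k) K (E (Image.lam (Image.inc (k := k) K) (dconv D).ofConv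
      (Coalgebra.comul (R := k) a)) j) by simp [Image.inc, TensorProduct.smul_tmul']]
  refine Submodule.smul_mem _ _ (Submodule.subset_span ⟨_, ?_, rfl⟩)
  rw [hz, ← hDj j]
  exact hG (Dj j)

/-- extension of the ground field preserves nilpotency of the `p`-Lie algebra -/
theorem pnil_baseChange (p : ℕ) [Fact p.Prime] [CharP k p] [Algebra.FiniteType k A] (hP : PNil p k A) :
    PNil p K (K ⊗[k] A) := by
  haveI : CharP K p := charP_of_injective_algebraMap (algebraMap k K).injective p
  obtain ⟨s, hs⟩ := Algebra.FiniteType.out (R := k) (A := A)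
  obtain ⟨U, hfin, hsU, hUsub⟩ := Comod.exists_finite_subcomod (k := k) (A := A) s
  let c : HopfRep.Comod k A A := inferInstance
  let cU : HopfRep.Comod k A U := ComodSub.Comod.restr c U hUsub
  have hι : Hoch.IsComodHom A U.subtype := ComodSub.isComodHom_subtype c U hUsub
  obtain ⟨N, F, h0, hN, hF⟩ := exists_lie_flag (V := U) p hP
  intro D
  let G : ℕ → Submodule k A := fun i => (F i).map U.subtype
  have hstep : ∀ i, ∀ z ∈ Image.ext' K (Image.inc (k := k) (A := A) K) (G i),
      contract (dconv D).ofConv z ∈ Image.ext' K (Image.inc (k := k) (A := A) K) (G (i + 1)) := by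
    intro i z hz
    induction hz using Submodule.span_induction with
    | mem x hx =>
      obtain ⟨_, ⟨v, hv, rfl⟩, rfl⟩ := hx
      refine contract_inc_mem K D _ _ fun E => ⟨_, hF i E v hv, ?_⟩
      exact map_contract hι _ v
    | zero => simp
    | add x y _ _ hx hy => rw [map_add]; exact add_mem hx hy
    | smul r x _ hx => rw [map_smul]; exact Submodule.smul_mem _ _ hx
  have hiter : ∀ m, ∀ a ∈ U, (contract (dconv D).ofConv ^ m : Module.End K (K ⊗[k] A)) (Image.inc (k := k) K a) ∈
      Image.ext' K (Image.inc (k := k) (A := A) K) (G m) := by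
    intro m
    induction m with
    | zero => exact fun a ha => Submodule.subset_span ⟨a, ⟨⟨a, ha⟩, h0 ▸ Submodule.mem_top, rfl⟩, rfl⟩
    | succ m ih => exact fun a ha => by rw [pow_succ', Module.End.mul_apply]; exact hstep m _ (ih a ha)
  have hzero : ∀ a ∈ U, (dconv D ^ p ^ (N + 1)).ofConv (Image.inc (k := k) K a) = 0 := by
    intro a ha
    obtain ⟨r, hr⟩ := Nat.exists_eq_add_of_le
      ((N.le_succ).trans (Nat.lt_pow_self (n := N + 1) (Fact.out : p.Prime).one_lt).le)
    have h1 : (contract (dconv D).ofConv ^ N : Module.End K (K ⊗[k] A)) (Image.inc (k := k) K a) = 0 := by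
      have := hiter N a ha
      simpa [G, hN, Image.ext'] using this
    have h2 : contract (dconv D ^ p ^ (N + 1)).ofConv (Image.inc (k := k) K a) = (0 : K ⊗[k] A) := by
      rw [contract_pow, hr, Nat.add_comm, pow_add, Module.End.mul_apply, h1, map_zero]
    have h3 : ∀ (φ : K ⊗[k] A →ₗ[K] K) (z : K ⊗[k] A), φ z = Bialgebra.counitAlgHom K (K ⊗[k] A) (contract φ z) := by
      intro φ z
      rw [contract_apply]
      change φ z = Bialgebra.counitAlgHom K (K ⊗[k] A) (slice φ (Coalgebra.comul (R := K) z))
      have h := congrArg (TensorProduct.lid K (K ⊗[k] A)) (Coalgebra.rTensor_counit_comul (R := K) z)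
      rw [TensorProduct.lid_tmul, one_smul] at h
      conv_lhs => rw [← h]
      induction Coalgebra.comul (R := K) z using TensorProduct.induction_on with
      | zero => simp
      | tmul x y => simp [mul_comm]
      | add x y hx hy => simp only [map_add, hx, hy]
    rw [h3, h2, map_zero]
  refine ⟨N + 1, N.succ_pos, WithConv.ext (LinearMap.ext fun z => ?_)⟩
  rw [WithConv.ofConv_zero, LinearMap.zero_apply]
  induction z using TensorProduct.induction_on with
  | zero => simp
  | add x y hx hy => rw [map_add, hx, hy, add_zero]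
  | tmul c a =>
    rw [show c ⊗ₜ[k] a = c • Image.inc (k := k) K a by simp [Image.inc, TensorProduct.smul_tmul'], map_smul]
    suffices h : (dconv D ^ p ^ (N + 1)).ofConv (Image.inc (k := k) K a) = 0 by rw [h, smul_zero]
    have h1 : (dconv D ^ p ^ (N + 1)).ofConv (1 : K ⊗[k] A) = 0 := by
      have := pow_char_mul p D (N + 1) 1 1
      rw [one_mul, Bialgebra.counit_one, one_mul, mul_one] at this
      exact left_eq_add.mp this
    have ha : a ∈ Algebra.adjoin k (s : Set A) := hs ▸ Algebra.mem_top
    induction ha using Algebra.adjoin_induction with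
    | mem x hx => exact hzero x (hsU hx)
    | algebraMap r =>
      rw [Algebra.algebraMap_eq_smul_one, map_smul, LinearMap.map_smul_of_tower]
      simp [Image.inc, ← Algebra.TensorProduct.one_def, h1]
    | add x y _ _ hx hy => rw [map_add, map_add, hx, hy, add_zero]
    | mul x y _ _ hx hy =>
      rw [show Image.inc (k := k) K (x * y) = Image.inc (k := k) K x * Image.inc (k := k) K y by
        simp [Image.inc], pow_char_mul, hx, hy, mul_zero, zero_mul, add_zero]

end Groth.Agent.LieUnip
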